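import Cfsg.Agent.Spor.Suz22880.L.D0

set_option autoImplicit false
set_option maxRecDepth 100000000
set_option Elab.async false

namespace Cfsg.Agent.Spor.Suz22880.L

theorem uok8 : Net.okb 15 un8 = true := by decide +kernel

theorem rel3 : U.rel 15 [17, 16, 16, 16, 16, 16] 0 15 = true := by decide +kernel

theorem rel4 : U.rel 15 [18, 1, 17, 1] 0 15 = true := by decide +kernel

theorem rel5 : U.rel 15 [18, 3, 17, 3] 0 15 = true := by decide +kernel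

theorem rel6 : U.rel 15 [18, 5, 17, 5] 0 15 = true := by decide +kernel

theorem rel7 : U.rel 15 [17, 7, 17, 7] 0 15 = true := by decide +kernel

theorem rel8 : U.rel 15 [18, 11, 17, 11] 0 15 = true := by decide +kernel

theorem rel9 : U.rel 15 [18, 13, 17, 13] 0 15 = true := by decide +kernel

theorem gr11 : sub M10 (U.growI W1 [4, 3, 2, 1, 0, 1, 2, 3, 4, 5, 6, 2, 1, 0, 1, 2, 3, 4, 5, 6, 5, 2, 1, 0, 1, 2, 3, 4, 5, 6, 5, 2, 1, 0, 1, 2, 3, 4, 5, 6, 2, 1] (Nat.shiftLeft 1 0)) = true := by decide +kernel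

theorem cl13 : band (U.closedW W1 M10) (sub (Nat.shiftLeft 1 0) M10) = true := by decide +kernel

theorem sz14 : sizeOk 15 M10 22880 = true := by decide +kernel

theorem fx16 : U.closedW W2 (Nat.shiftLeft 1 0) = true := by decide +kernel

theorem uok9 : Net.okb 15 un9 = true := by decide +kernel

theorem rel17 : U.rel 15 [19, 1, 7, 5, 3, 5, 13, 1, 7, 11, 3, 7, 3, 1, 7, 1, 3, 5, 1, 7, 11, 3, 1, 7, 3, 5, 13, 11, 7, 3, 1, 11, 13, 7, 11, 7, 5, 7, 5, 7, 5, 3, 7, 11, 13, 3, 5, 7, 11, 3, 1] 0 15 = true := by decide +kernel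

theorem uok10 : Net.okb 15 un10 = true := by decide +kernel

theorem rel18_0 : U.rel 15 [21, 7, 1, 7, 1, 5, 13, 7, 3, 11, 7, 11, 5, 1, 3, 7, 13, 3, 5, 1, 11, 3, 11, 13, 11, 3, 7, 3, 11, 13, 5, 3, 11, 13, 1, 3, 1, 11, 5, 1, 3, 13, 1, 7, 13, 7, 13, 7, 5, 13, 3, 7, 5, 7, 5, 7, 3, 5, 1, 5, 3, 13, 1, 7, 1, 11, 7, 1, 13, 3, 13, 7, 13, 11, 7, 3, 11, 5, 3, 13, 3, 1, 5, 1, 11, 3, 5, 11, 7, 13, 1, 7, 11, 5, 3, 11, 5, 7, 5, 3, 13, 3, 1, 3, 5, 7, 13, 11] 0 8 = true := by decide +kernel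

theorem rel18_8 : U.rel 15 [21, 7, 1, 7, 1, 5, 13, 7, 3, 11, 7, 11, 5, 1, 3, 7, 13, 3, 5, 1, 11, 3, 11, 13, 11, 3, 7, 3, 11, 13, 5, 3, 11, 13, 1, 3, 1, 11, 5, 1, 3, 13, 1, 7, 13, 7, 13, 7, 5, 13, 3, 7, 5, 7, 5, 7, 3, 5, 1, 5, 3, 13, 1, 7, 1, 11, 7, 1, 13, 3, 13, 7, 13, 11, 7, 3, 11, 5, 3, 13, 3, 1, 5, 1, 11, 3, 5, 11, 7, 13, 1, 7, 11, 5, 3, 11, 5, 7, 5, 3, 13, 3, 1, 3, 5, 7, 13, 11] 8 7 = true := by decide +kernel

theorem gr20 : sub M19 (U.growI W2 [0, 1, 3, 4, 5, 4, 2, 1, 0, 1, 2, 3, 4, 5, 4, 2, 1, 0, 1, 2, 3, 4, 5, 4, 2, 1, 0, 1, 2, 3] (Nat.shiftLeft 1 67)) = true := by decide +kernel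

theorem cl22 : band (U.closedW W2 M19) (sub (Nat.shiftLeft 1 67) M19) = true := by decide +kernel

theorem sz23 : sizeOk 15 M19 13608 = true := by decide +kernel

theorem fx26 : U.closedW W25 (Nat.shiftLeft 1 67) = true := by decide +kernel

theorem gr28 : sub M27 (U.growI W25 [0, 1, 1, 0, 0, 1, 1, 0, 0, 1, 1, 0, 0, 1, 1, 0, 0, 1, 1, 0, 0, 1, 1, 0] (Nat.shiftLeft 1 143)) = true := by decide +kernel

theorem cl30 : band (U.closedW W25 M27) (sub (Nat.shiftLeft 1 143) M27) = true := by decide +kernel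

theorem sz31 : sizeOk 15 M27 1440 = true := by decide +kernel

end Cfsg.Agent.Spor.Suz22880.L
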